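import Cfsg.Agent.FT.BG15.Kappa
import Cfsg.Agent.FT.BG15.Pure
import Cfsg.Agent.FT.BG6_3
import Cfsg.Agent.FT.Metacyclic

/-!
B & G, Theorem 15.2 and Corollaries 15.3(b), 15.5, 15.6.
-/

set_option autoImplicit false

open Pointwise Cfsg Cfsg.Lib.Solv

namespace Cfsg.Lib.FT

variable {G : Type*} [Group G] [Finite G]

theorem bg15_hyp (hG : IsMinSimpleOddOrder G) {M K : Subgroup G} (hM : IsCoatom M)
    (hK : IsPiHallOf (kappa M) K M) (hne : fittingHallOf M ≠ sigmaCore M) {q : ℕ}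
    (hq : q = Nat.card ↥(sigmaCore M ⊓ 𝐂 K)) :
    MaxP1 M ∧ sigmaCore M = ⁅M, M⁆ ∧ BG15.Hyp M (sigmaCore M) K q ∧
      piCoreOf {q} M = piCoreOf {q} (sigmaCore M) := by
  have hnn : ¬ Group.IsNilpotent (sigmaCore M) := fun h => hne ((Fcore_eq_Msigma hG hM).2 h)
  have hP1 : MaxP1 M := by
    by_contra h
    exact hnn (notP1type_Msigma_nil hG ((not_maxP1_iff hM).1 h))
  obtain ⟨U, hUK⟩ := ex_kappa_compl hG hM hK
  have hU := (trivg_kappa_compl hG hM hUK).2 hP1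
  subst hU
  obtain ⟨hE, -, hME, hpr, -⟩ := kappa_compl_context hG hM hUK
  rw [bot_sup_eq] at hE hME
  have hc := coprime_sigma_compl hG hM hE
  have hs := sub_mmax_sol hG hM (Msigma_normal M).le
  obtain ⟨_, -, -, -, -, -, -, -, h1, -⟩ := Ptype_embedding hG hP1.maxP hK
  have hqp : q.Prime := by
    rcases h1 with ⟨h1, -⟩ | ⟨-, h1⟩
    · exact absurd h1 hP1.not_maxP2
    · exact hq ▸ h1
  have hqσ : q ∈ sigma M := pgroupP.1 (Msigma_pgroup M) q hqp (hq ▸ cardSg inf_le_left)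
  refine ⟨hP1, le_antisymm (Msigma_der1 hG hM)
    (hME.der_le_left (cyclic_abelian (kappa_Hall_cyclic hG hM hK))),
    ⟨hME, hs, mFT_odd hG M, hc, hpr, (coprime_der1_sdprod hME hc hs (Msigma_der1 hG hM)).1, hnn,
      hq.symm, hqp⟩, ?_⟩
  exact (pcore_pcore_of_subset (Set.singleton_subset_iff.2 hqσ) M).symm

/-- B & G, Theorem 15.2 (a), (b), (c) and the part of (g) that does not mention `Q₀`.
Here `K* = C_{M_σ}(K)`, `q = |K*|`, `Q = O_q(M)`. -/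
theorem Fcore_neq_Msigma (hG : IsMinSimpleOddOrder G) {M K : Subgroup G} (hM : IsCoatom M)
    (hK : IsPiHallOf (kappa M) K M) (hne : fittingHallOf M ≠ sigmaCore M) {q : ℕ}
    (hq : q = Nat.card ↥(sigmaCore M ⊓ 𝐂 K)) :
    (MaxP1 M ∧ SDProd (sigmaCore M) K M ∧ sigmaCore M = ⁅M, M⁆) ∧
    ((Nat.card K).Prime ∧ q.Prime ∧ q ∣ Nat.card (fittingHallOf M) ∧ q ∈ beta M) ∧
    IsSylowOf q (piCoreOf {q} M) M ∧
    (⁅⁅M, M⁆, ⁅M, M⁆⁆ ≤ fittingOf M ∧ CProd (piCoreOf {q} M) (M ⊓ 𝐂 (piCoreOf {q} M)) (fittingOf M) ∧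
      fittingOf M < sigmaCore M) := by
  obtain ⟨hP1, hder, h, hQ⟩ := bg15_hyp hG hM hK hne hq
  have := Fact.mk h.prime
  obtain ⟨D, hD, hKD⟩ := coprime_Hall_exists {q}ᶜ h.sdprod.norm h.coprime h.sol
  obtain ⟨h1, -, -, -, -, h2, h3, h4⟩ := h.main hD hKD hQ rfl
  have hqσ : q ∈ sigma M := pgroupP.1 (Msigma_pgroup M) q h.prime (hq ▸ cardSg inf_le_left)
  have hS : IsSylowOf q (piCoreOf {q} M) M :=
    subHall_Sylow (Msigma_Hall hG hM) hqσ (hQ ▸ h.sylow_nil.1)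
  refine ⟨⟨hP1, h.sdprod, hder⟩, ⟨h1, h.prime, ?_, ?_⟩, hS, hder ▸ h2, h3, h4⟩
  · rw [← h.card]
    exact cardSg ((hQ ▸ h.cent_le).trans
      (Fcore_max hS (pcore_normal _ _).norm (pgroup_nil (pcore_isPGroup q M))))
  · by_contra hβ
    have h5 := (beta_max_pdiv hG hM h.prime hβ).2.1
    apply h.not_nil
    rw [← Hall_sup_eq h.sylow_nil.1 h5]
    exact cprod_nil (pgroup_nil (pcore_isPGroup q _)) (h.sylow_nil.2 _ h5) (p'core_cent_pcore _ _)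

/-- B & G, Theorem 15.2 (d), (e), (f) and the rest of (g), for a complement `D` of `Q = O_q(M)` in
`M_σ` and `Q₀ = C_Q(D)`. -/
theorem Fcore_neq_Msigma_chief (hG : IsMinSimpleOddOrder G) {M K D Q Q₀ : Subgroup G}
    (hM : IsCoatom M) (hK : IsPiHallOf (kappa M) K M) (hne : fittingHallOf M ≠ sigmaCore M) {q : ℕ}
    (hq : q = Nat.card ↥(sigmaCore M ⊓ 𝐂 K)) (hD : IsPiHallOf {q}ᶜ D (sigmaCore M))
    (hQ : Q = piCoreOf {q} M) (hQ₀ : Q₀ = Q ⊓ 𝐂 D) :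
    Group.IsNilpotent D ∧ IsChiefFactor M Q₀ Q ∧ (⁅Q, Q⁆ ≤ Q₀ ∧ ∀ x ∈ Q, x ^ q ∈ Q₀) ∧
      Nat.card Q = Nat.card Q₀ * q ^ Nat.card K ∧
      (∀ x ∈ M, x ∈ fittingOf M ↔ ∀ y ∈ Q, x * y * x⁻¹ * y⁻¹ ∈ Q₀) ∧
      ∀ x ∈ sigmaCore M, x ∈ fittingOf M ↔
        ∀ y ∈ sigmaCore M ⊓ 𝐂 K, x * y * x⁻¹ * y⁻¹ ∈ Q₀ := by
  obtain ⟨-, -, h, hQ'⟩ := bg15_hyp hG hM hK hne hq
  rw [hQ'] at hQ
  obtain ⟨D₁, hD₁, hKD⟩ := coprime_Hall_exists {q}ᶜ h.sdprod.norm h.coprime h.sol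
  obtain ⟨hch, -⟩ := h.chief hD₁ hKD hQ rfl
  have h0 : Q₀ = Q ⊓ 𝐂 D₁ := by
    obtain ⟨g, hg, rfl⟩ := Hall_trans h.sol hD₁ hD
    have hgM := h.sdprod.le_left hg
    rw [hQ₀, centJ, ← normP.1 (hch.normalW.norm hgM), conjIg, normP.1 (hch.normalV.norm hgM)]
  obtain ⟨-, h1, h2, h3, h4, -⟩ := h.main hD₁ hKD hQ h0
  exact ⟨h.sylow_nil.2 D hD, h0 ▸ hch, h1, h2, h3, h4⟩

/-- B & G, Theorem 15.2, first assertion. -/
theorem Fcore_structure (hG : IsMinSimpleOddOrder G) {M : Subgroup G} (hM : IsCoatom M) :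
    fittingHallOf M ≠ ⊥ ∧ fittingHallOf M ≤ sigmaCore M ∧ sigmaCore M ≤ ⁅M, M⁆ ∧ ⁅M, M⁆ < M := by
  refine ⟨?_, Fcore_sub_Msigma hG hM, Msigma_der1 hG hM,
    sol_der1_proper (mmax_sol hG hM) (mmax_neq1 hG hM)⟩
  by_cases hne : fittingHallOf M = sigmaCore M
  · exact hne ▸ Msigma_neq1 hG hM
  · obtain ⟨K, hK⟩ := ex_kappa_Hall hG hM
    obtain ⟨-, ⟨-, h1, h2, -⟩, -⟩ := Fcore_neq_Msigma hG hM hK hne rfl
    intro h
    rw [h, Subgroup.card_bot, Nat.dvd_one] at h2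
    exact h1.ne_one h2

/-- `M_σ / O_q(M)` is nilpotent in the situation of 15.2 -/
theorem bg15_nilMod (hG : IsMinSimpleOddOrder G) {M K : Subgroup G} (hM : IsCoatom M)
    (hK : IsPiHallOf (kappa M) K M) (hne : fittingHallOf M ≠ sigmaCore M) {q : ℕ}
    (hq : q = Nat.card ↥(sigmaCore M ⊓ 𝐂 K)) : NilMod (sigmaCore M) (piCoreOf {q} M) := by
  obtain ⟨-, -, h, hQ⟩ := bg15_hyp hG hM hK hne hq
  obtain ⟨D, hD⟩ := Hall_exists {q}ᶜ h.sol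
  rw [hQ]
  exact (sdprod_normal_pHall (pcore_normal _ _) h.sylow_nil.1 hD).nilMod_iff.2 (h.sylow_nil.2 D hD)

/-- B & G, Corollary 15.3(b). -/
theorem sigma_Hall_tame_fusion (hG : IsMinSimpleOddOrder G) {M H : Subgroup G} (hM : IsCoatom M)
    (hH : IsHallOf H (sigmaCore M)) {x g : G} (hx : x ∈ H) (hg : g * x * g⁻¹ ∈ H) :
    ∃ n ∈ M ⊓ 𝐍 H, n * x * n⁻¹ = g * x * g⁻¹ := by
  by_cases hx1 : x = 1
  · exact ⟨1, one_mem _, by simp [hx1]⟩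
  have hσM := (Msigma_normal M).le
  obtain ⟨m, hm, hmx⟩ : ∃ m ∈ M, m * x * m⁻¹ = g * x * g⁻¹ := by
    have h1 : M ∈ sigmaMmax x := ⟨hM, hH.1 hx⟩
    have h2 : g⁻¹ •ᶜ M ∈ sigmaMmax x := by
      have := (sigma_mmaxJ M (g * x * g⁻¹) g⁻¹).2 ⟨hM, hH.1 hg⟩
      simpa [mul_assoc] using this
    obtain ⟨r, hr, h3⟩ := (FT_signalizer_context hG (Msigma_ell1 hM (hH.1 hx) hx1)).1 M h1 _ h2
    refine ⟨g * r, (mmax_conj_eq_iff hG hM).1 ?_, ?_⟩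
    · rw [conj_mul_smul, ← h3, ← conj_mul_smul]; simp
    · have h4 := mem_cent1.1 (signalizer_le_cent1 x hr)
      rw [mul_assoc g r x, h4]; group
  rw [← hmx] at hg ⊢
  by_cases hn : M ≤ 𝐍 H
  · exact ⟨m, ⟨hm, hn hm⟩, rfl⟩
  have hne : fittingHallOf M ≠ sigmaCore M := fun h => hn ((Msigma_normal M).norm.trans
    (nilpotent_Hall_norm ((Fcore_eq_Msigma hG hM).1 h) (Hall_pi hH)))
  obtain ⟨K, hK⟩ := ex_kappa_Hall hG hM
  obtain ⟨q, hq⟩ : ∃ q, q = Nat.card ↥(sigmaCore M ⊓ 𝐂 K) := ⟨_, rfl⟩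
  obtain ⟨-, -, h, hQ⟩ := bg15_hyp hG hM hK hne hq
  have := Fact.mk h.prime
  have hnil := bg15_nilMod hG hM hK hne hq
  obtain ⟨Q, hQe⟩ : ∃ Q, Q = piCoreOf {q} M := ⟨_, rfl⟩
  rw [← hQe] at hnil hQ
  have hQM : Q ⊲ M := hQe ▸ pcore_normal _ _
  have hQσ : Q ≤ sigmaCore M := hQ ▸ pcore_sub _ _
  have hHM := hH.1.trans hσM
  have := hQM.subgroupOf
  have hk : pre (qmk M Q) ⊥ = Q := ker_qmk hQM.le
  have h1 : M ≤ 𝐍 (Q ⊔ H) := by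
    refine norms_of_img (f := qmk M Q) le_rfl (sup_le hQM.le hHM) (hk.symm ▸ le_sup_left) ?_
    rw [img_sup_of_le_ker hHM hk.ge]
    exact (img_norms _ (Msigma_normal M).norm).trans (nilpotent_Hall_norm
      ((nilpotent_img_qmk_iff hσM).2 hnil) (pHall_img _ hσM (Hall_pi hH)))
  have hQq : IsPGroup q Q := hQe ▸ pcore_isPGroup q M
  have hqH : ¬ q ∣ Nat.card H := fun hd => by
    have h2 : Q ≤ H := normal_sub_Hall (Hall_pi hH) (pi_pgroup hQq ⟨h.prime, hd⟩)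
      (normalS hQσ hσM hQM)
    rw [sup_eq_right.2 h2] at h1
    exact hn h1
  have hQH : Q ⊓ H = ⊥ := pgroup_TI (pgroup_iff.2 hQq) ((p'groupE h.prime).2 hqH)
  have h2 := Hall_Frattini_arg (solvableS (sup_le hQσ hH.1) h.sol) ⟨sup_le hQM.le hHM, h1⟩
    (pHall_subl le_sup_right (sup_le hQσ hH.1) (Hall_pi hH))
  rw [sup_assoc, sup_eq_right.2 (le_inf hHM (normG H))] at h2
  rw [← h2] at hm
  obtain ⟨a, ha, n, hn', rfl⟩ := (Coprime.mem_sup_iff (inf_le_left.trans hQM.norm)).1 hm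
  refine ⟨n, hn', ?_⟩
  have h3 : n * x * n⁻¹ ∈ H := (memJ_norm hn'.2).2 hx
  have h4 : a * n * x * (a * n)⁻¹ * (n * x * n⁻¹)⁻¹ ∈ Q ⊓ H := by
    refine Subgroup.mem_inf.2 ⟨?_, H.mul_mem hg (H.inv_mem h3)⟩
    have h5 := Q.mul_mem ha ((memJ_norm (hQM.norm (hHM h3))).2 (Q.inv_mem ha))
    convert h5 using 1
    group
  rw [hQH, Subgroup.mem_bot, mul_inv_eq_one] at h4
  exact h4.symm

/-- B & G, Corollary 15.5, with `Y = O_{σ(M)'}(F(M))`. -/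
theorem Fitting_structure (hG : IsMinSimpleOddOrder G) {M : Subgroup G} (hM : IsCoatom M) :
    (IsCyclic (piCoreOf (sigma M)ᶜ (fittingOf M)) ∧
      IsPiSubgroup (tau2 M) (piCoreOf (sigma M)ᶜ (fittingOf M))) ∧
    (⁅⁅M, M⁆, ⁅M, M⁆⁆ ≤ fittingOf M ∧
      CProd (fittingHallOf M) (M ⊓ 𝐂 (fittingHallOf M)) (fittingOf M) ∧
      DProd (fittingOf (sigmaCore M)) (piCoreOf (sigma M)ᶜ (fittingOf M)) (fittingOf M)) ∧
    (fittingHallOf M ≤ ⁅M, M⁆ ∧ NilMod ⁅M, M⁆ (fittingHallOf M)) ∧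
    (MaxP M → fittingOf M ≤ ⁅M, M⁆) := by
  obtain ⟨hH1, hHσ, hσ', -⟩ := Fcore_structure hG hM
  have hσM := (Msigma_normal M).le
  have hHall : IsHallOf (fittingHallOf M) (sigmaCore M) :=
    pHall_Hall (pHall_subl hHσ hσM (Hall_pi (Fcore_Hall M)))
  obtain ⟨X, hXM, hXc, hXτ, hX⟩ := cent_Hall_sigma_sdprod hG hM hHall hH1
  have hdp : DProd (fittingOf (sigmaCore M)) (piCoreOf (sigma M)ᶜ (fittingOf M)) (fittingOf M) := by
    rw [sigmaCore_def, Fitting_pcore]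
    exact nilpotent_pcoreC _ (Fitting_nil M)
  have hYM : piCoreOf (sigma M)ᶜ (fittingOf M) ⊲ M := pcore_normal_trans _ (Fitting_normal M)
  have hYC : piCoreOf (sigma M)ᶜ (fittingOf M) ≤ M ⊓ 𝐂 (fittingHallOf M) :=
    le_inf hYM.le (sub_nilpotent_cent2 (Fitting_nil M) (Fcore_sub_Fitting M) (pcore_sub _ _)
      (pnat_coprime (pgroupS hHσ (Msigma_pgroup M)) (pcore_pgroup _ _)))
  have hYX : piCoreOf (sigma M)ᶜ (fittingOf M) ≤ X :=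
    normal_sub_Hall (hX.isPiHallOf_right_iff.2 ⟨sub_pgroup (tau2_sub_sigma' M) hXτ,
      (compl_compl (sigma M)).symm ▸ pgroupS inf_le_left (Msigma_pgroup M)⟩) (pcore_pgroup _ _)
      (normalS hYC inf_le_left hYM)
  have hYτ := pgroupS hYX hXτ
  -- `F(M) ≤ M_F C_M(M_F)`
  have hF : fittingOf M ≤ fittingHallOf M ⊔ M ⊓ 𝐂 (fittingHallOf M) := by
    have h1 := nilpotent_pcoreC (piOf (Nat.card (fittingHallOf M))) (Fitting_nil M)
    rw [← pcore_Fcore subset_rfl, pcore_pgroup_id (pgroup_pi _)] at h1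
    exact h1.sup.ge.trans (sup_le_sup_left
      (le_inf ((pcore_sub _ _).trans (Fitting_sub M)) h1.cent) _)
  obtain ⟨K, hK⟩ := ex_kappa_Hall hG hM
  have key : ⁅⁅M, M⁆, ⁅M, M⁆⁆ ≤ fittingOf M ∧ M ⊓ 𝐂 (fittingHallOf M) ≤ fittingOf M ∧
      NilMod ⁅M, M⁆ (fittingHallOf M) := by
    by_cases hne : fittingHallOf M = sigmaCore M
    · obtain ⟨U, hUK⟩ := ex_kappa_compl hG hM hK
      have h1 := (kappa_structure hG hM hUK).1.2.2.2
      refine ⟨h1.trans (hne ▸ Fcore_sub_Fitting M), ?_, nilMod_of_der_le (hne ▸ h1)⟩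
      refine Fitting_max (norm_subcent_normal (Fcore_normal M).norm) ?_
      rw [← hX.sup, ← hne]
      exact cprod_nil (abelian_nil (abelian_center _)) (abelian_nil (cyclic_abelian hXc))
        ((hX.le_right.trans inf_le_right).trans (centS inf_le_left))
    · obtain ⟨⟨-, -, h1⟩, ⟨-, hq, hqd, -⟩, -, h2, h3, -⟩ := Fcore_neq_Msigma hG hM hK hne rfl
      have := Fact.mk hq
      have h4 := (Fcore_pcore_Sylow hqd).2.le.trans (pcore_sub _ _)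
      exact ⟨h2, (inf_le_inf_left _ (centS h4)).trans h3.le_right,
        h1 ▸ (bg15_nilMod hG hM hK hne rfl).mono le_rfl h4⟩
  refine ⟨⟨cyclicS hYX hXc, hYτ⟩, ⟨key.1, ⟨le_antisymm (sup_le (Fcore_sub_Fitting M) key.2.1) hF,
    inf_le_right⟩, hdp⟩, ⟨hHσ.trans hσ', key.2.2⟩, fun hP => ?_⟩
  obtain ⟨_, -, -, -, -, -, -, -, -, -, h3⟩ := Ptype_embedding hG hP hK
  rw [← hdp.sup]
  refine sup_le ((Fitting_sub _).trans hσ') (h3.le_left_of_coprime hYM.le ?_)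
  refine p'nat_coprime (sub_pgroup ?_ hYτ) (pHall_pgroup hK)
  intro p hp hκ
  rcases kappa_tau13 hκ with h | h
  · exact tau2'1 M h hp
  · exact tau3'2 M hp h

/-- 15.5(c) in the form used in section 16: subgroups of `M'` meeting `M_F` trivially are
nilpotent. -/
theorem der1_Fcore_compl_nil (hG : IsMinSimpleOddOrder G) {M V : Subgroup G} (hM : IsCoatom M)
    (hV : V ≤ ⁅M, M⁆) (hVF : fittingHallOf M ⊓ V = ⊥) : Group.IsNilpotent V := by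
  have h := (((Fitting_structure hG hM).2.2.1.2).mono hV le_rfl).inf (le_refl V)
  rwa [hVF, nilMod_bot_iff] at h

/-- B & G, Corollary 15.6, with `K* = C_{M_σ}(K)`. -/
theorem Ptype_cyclics (hG : IsMinSimpleOddOrder G) {M K : Subgroup G} (hM : MaxP M)
    (hK : IsPiHallOf (kappa M) K M) :
    sigmaCore M ⊓ 𝐂 K ≠ ⊥ ∧ IsCyclic ↥(sigmaCore M ⊓ 𝐂 K) ∧
      sigmaCore M ⊓ 𝐂 K ≤ ⁅⁅M, M⁆, ⁅M, M⁆⁆ ∧ sigmaCore M ⊓ 𝐂 K ≤ fittingHallOf M ∧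
      ¬ IsCyclic (fittingHallOf M) := by
  have h1 := (Ptype_structure hG hM hK).2.2.1.1
  obtain ⟨_, -, -, -, -, -, ⟨h2, -⟩, -, -, -, h3⟩ := Ptype_embedding hG hM hK
  have h4 : sigmaCore M ⊓ 𝐂 K ≤ ⁅⁅M, M⁆, ⁅M, M⁆⁆ :=
    (inf_le_inf_right _ (Msigma_der1 hG hM.max)).trans (coprime_der1_sdprod h3
      (h3.isHallOf_right_iff.1 (pHall_Hall hK)) (sub_mmax_sol hG hM.max (der_sub M)) le_rfl).2
  refine ⟨h1, cyclicS le_sup_right h2, h4, ?_, fun hc => ?_⟩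
  · by_cases hne : fittingHallOf M = sigmaCore M
    · exact hne ▸ inf_le_left
    · obtain ⟨-, -, h, hQ⟩ := bg15_hyp hG hM.max hK hne rfl
      obtain ⟨-, ⟨-, hq, hqd, -⟩, -⟩ := Fcore_neq_Msigma hG hM.max hK hne rfl
      have := Fact.mk hq
      exact (hQ ▸ h.cent_le).trans ((Fcore_pcore_Sylow hqd).2.le.trans (pcore_sub _ _))
  · obtain ⟨⟨h5, -⟩, ⟨-, h6, h7⟩, -⟩ := Fitting_structure hG hM.max
    have h8 : ⁅M, M⁆ ≤ fittingOf M :=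
      (le_inf (der_sub M) ((dergS (Fcore_normal M).norm).trans
        (Metacyclic.der_norm_cent_cyclic hc))).trans h6.le_right
    have h9 : fittingHallOf M = sigmaCore M := (Fcore_eq_Msigma hG hM.max).2
      (nilpotentS ((Msigma_der1 hG hM.max).trans h8) (Fitting_nil M))
    have h10 : IsMulCommutative (fittingOf M) :=
      h7.abelian (abelianS (Fitting_sub _) (cyclic_abelian (h9 ▸ hc))) (cyclic_abelian h5)
    exact h1 (eq_bot_iff.2 (h4.trans (abelian_iff_der.1 (abelianS h8 h10)).le))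

end Cfsg.Lib.FT
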