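import Cfsg.Agent.FT.BG15.NonTI

/-!
B & G, Theorem 15.8 and Corollary 15.9.
-/

set_option autoImplicit false

open Pointwise Cfsg Cfsg.Lib.Solv

namespace Cfsg.Lib.FT

variable {G : Type*} [Group G] [Finite G]

theorem bg15_tau2_kappa' (M : Subgroup G) : tau2 M ⊆ (kappa M)ᶜ := fun _ hp hκ =>
  (kappa_tau13 hκ).elim (fun h => tau2'1 M h hp) fun h => tau3'2 M hp h

/-- B & G, Theorem 15.8. -/
theorem tau2_P2type_signalizer (hG : IsMinSimpleOddOrder G) {M U K R H : Subgroup G}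
    (hM : MaxP2 M) (hUK : KappaCompl M U K) {r : ℕ} (hr : r.Prime) (hR : IsSylowOf r R U)
    (hH : IsCoatom H) (hN : 𝐍 R ≤ H) {q : ℕ} (hq : q ∈ tau2 H) :
    (Nat.card K).Prime ∧ tau2 H = {Nat.card K} ∧ tau2 M = ∅ := by
  have hK := hUK.hallK
  have hKp := ((Ptype_structure hG hM.maxP hK).2.2.2.2.2.2 hM).2.1
  obtain ⟨L, hL, -, hU, ⟨hKs, -⟩, ⟨hKe, -⟩, -⟩ := Ptype_embedding hG hM.maxP hK
  have hCL : 𝐂 K ≤ L := (hU K le_rfl hKp).le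
  obtain ⟨hF, hUH, -, -, hKF, hD⟩ := P2type_signalizer hG hM hUK hL.max hCL hr hR hH hN
  obtain ⟨k, hk⟩ : ∃ k, k = Nat.card K := ⟨_, rfl⟩
  rw [← hk] at hKp ⊢
  have := Fact.mk hKp
  have hKk : IsPGroup k K := isPGroup_of_card_prime hk.symm
  have hK1 : K ≠ ⊥ := prime_ne_bot (hk ▸ hKp)
  have hKσ : K ≤ sigmaCore L := hKe ▸ inf_le_left
  have hKLF : K ≤ fittingHallOf L := hKe ▸ (Ptype_cyclics hG hL hKs).2.2.2.1
  obtain ⟨hQ, hQe⟩ := Fcore_pcore_Sylow (p := k) (hk ▸ cardSg hKLF)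
  obtain ⟨Q, hQd⟩ : ∃ Q, Q = piCoreOf {k} L := ⟨_, rfl⟩
  rw [← hQd] at hQ hQe
  have hQF : Q ≤ fittingHallOf L := hQe ▸ pcore_sub _ _
  have hQU : UniqMax Q L := ((Ptype_structure hG hL hKs).2.2.2.2.1 k hKp (by rw [hKe, hk]) Q
    (pHall_subl (hQF.trans (Fcore_sub_Msigma hG hL.max)) (Msigma_normal L).le hQ)).1
  have key : ∀ s ∈ tau2 H, ∀ A ∈ Elem s 2 (H ⊓ L), s = k ∧ ¬ Q ≤ 𝐂 A := fun s hs A hA => by
    have hsp : s.Prime := (mem_tau2_iff.1 hs).1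
    have := Fact.mk hsp
    obtain ⟨⟨hAn, hAe⟩, ⟨hCA, -⟩, -⟩ := tau2_compl_context hG hH hD hs hA
    have hQA : ¬ Q ≤ 𝐂 A := fun h =>
      hF.not_maxP (hQU.eq hH ((h.trans hCA).trans inf_le_left) ▸ hL)
    refine ⟨?_, hQA⟩
    by_contra hsk
    have hAL : A ≤ L := (pnElem_sub hA).trans inf_le_right
    have hKA : K ≤ 𝐂 A := sub_nilpotent_cent2 (Fitting_nil _)
      (Fitting_max hAn (pgroup_nil (pnElem_pgroup hA))) hKF
      (pgroup_coprime_of_ne (pnElem_pgroup hA) hKk hsk)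
    have hsσ : s ∈ sigma L := by
      by_contra h
      have h1 := (tau2_context hG hL.max (sigma'2Elem_tau2' hG hL.max hsp h (pnElem_of_le hA hAL))
        (pnElem_of_le hA hAL)).2.2.1
      exact hK1 (eq_bot_iff.2 (h1 ▸ le_inf hKσ hKA))
    have hAσ : A ≤ sigmaCore L := sub_Msigma hG hL.max hAL (pi_pgroup (pnElem_pgroup hA) hsσ)
    have hAF : A ≤ fittingOf L := by
      by_cases hne : fittingHallOf L = sigmaCore L
      · exact hAσ.trans (hne ▸ Fcore_sub_Fitting L)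
      obtain ⟨D, hD'⟩ := Hall_exists
        ({Nat.card ↥(sigmaCore L ⊓ 𝐂 (sigmaCore M ⊓ 𝐂 K))}ᶜ : Set ℕ)
        (sub_mmax_sol hG hL.max (Msigma_normal L).le)
      obtain ⟨-, -, -, -, -, h1⟩ := Fcore_neq_Msigma_chief hG hL.max hKs hne rfl hD' rfl rfl
      intro x hx
      refine (h1 x (hAσ hx)).2 fun y hy => ?_
      rw [hKe] at hy
      rw [mem_cent.1 (hKA hy) x hx]
      simp
    exact hQA (sub_nilpotent_cent2 (Fitting_nil L) hAF (hQF.trans (Fcore_sub_Fitting L))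
      (pgroup_coprime_of_ne (pnElem_pgroup hA) (Sylow_pgroup hQ) hsk))
  have hτ : ∀ s ∈ tau2 H, s = k := fun s hs => by
    obtain ⟨A, hA, -⟩ := ex_tau2Elem hG hH hD hs
    exact (key s hs A hA).1
  obtain rfl := hτ q hq
  refine ⟨hKp, Set.eq_singleton_iff_unique_mem.2 ⟨hq, hτ⟩, Set.eq_empty_of_forall_notMem ?_⟩
  intro t ht
  obtain ⟨A, hA, -⟩ := ex_tau2Elem hG hH hD hq
  have hQna : ¬ IsMulCommutative Q := fun h => (key q hq A hA).2 ((abelian_le_cent h).trans (centS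
    ((sub_normal_Hall hQ (hQd ▸ (pcore_normal _ _).norm) ((pnElem_sub hA).trans inf_le_right)).2
      (pgroup_iff.2 (pnElem_pgroup hA)))))
  obtain ⟨-, ⟨hA₀, -⟩, -⟩ := nonabelian_tau2 hG hH hD hq hA (Sylow_pgroup hQ) hQna
  obtain ⟨hE, hUKs, -, -, hreg, -⟩ := kappa_compl_context hG hM.max hUK
  have := Fact.mk (mem_tau2_iff.1 ht).1
  obtain ⟨B, hB, -⟩ := ex_tau2Elem hG hM.max hE ht
  have hBU : B ≤ U := hUKs.le_left_of_coprime (pnElem_sub hB)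
    (p'nat_coprime (pi_pgroup (pnElem_pgroup hB) (bg15_tau2_kappa' M ht)) (pHall_pgroup hK))
  have hCB := (tau2_compl_context hG hM.max hE ht hB).2.1.1
  obtain ⟨a, ha, hao⟩ := Cauchy hKp hA₀.symm.dvd
  have haU : a ∈ 𝐂 U := centS hUH ha.2
  have ha1 : a ≠ 1 := by
    rintro rfl
    exact hKp.ne_one (hao.symm.trans orderOf_one)
  have h1 := hreg.cent1_of_not_mem hUKs (hCB (centS hBU haU)) (p_elt_not_mem
    ((p_elt_prime hao hKp).2 (pgroupP.1 (pHall_pgroup hK) q hKp hk.dvd)) ha1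
    (bg15_kappa_compl_kappa' hUK))
  exact nt_pnElem hB two_pos (eq_bot_iff.2 (h1 ▸ hBU.trans (le_inf le_rfl (le_cent1_iff.2 haU))))

/-- B & G, Corollary 15.9 (a), (b), for `N = N[x]`. -/
theorem nonFtype_signalizer_base (hG : IsMinSimpleOddOrder G) {M : Subgroup G} (hM : IsCoatom M)
    {x : G} (hx : x ∈ sigmaCore M) (hx1 : x ≠ 1) (hC : ¬ 𝐂₁ x ≤ M)
    (hN : ¬ MaxF (signalizerBase x)) :
    MaxF M ∧ MaxP2 (signalizerBase x) ∧
      ∃ E : Subgroup G, IsFrob M (sigmaCore M) E ∧ IsCyclic E := by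
  have hMx : M ∈ sigmaMmax x := ⟨hM, hx⟩
  obtain ⟨hU, -, hτ, hty, h1⟩ := FT_signalizer_context' hG (Msigma_ell1 hM hx hx1)
    ((nontrivial_sigma_mmax_iff hG hx1 hMx).2 hC)
  obtain ⟨-, hτσ, -, hE⟩ := h1 M hMx
  have hP2 := hty.resolve_left hN
  obtain ⟨N, hNe⟩ : ∃ N, N = signalizerBase x := ⟨_, rfl⟩
  rw [← hNe] at hU hτ hτσ hE hP2 ⊢
  obtain ⟨U, K, hUK, hUM⟩ : ∃ U K, KappaCompl N U K ∧ U ≤ M := by
    obtain ⟨K, hK⟩ := ex_kappa_Hall hG hU.mmax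
    obtain ⟨U, hUK⟩ := ex_kappa_compl hG hU.mmax hK
    obtain ⟨g, hg, h2⟩ := Hall_trans (mmax_sol hG hU.mmax) (kappa_compl_context hG hU.mmax hUK).1 hE
    have h3 := hUK.conj g
    rw [conjGid hg] at h3
    exact ⟨_, _, h3, (((conjSg g).2 le_sup_left).trans h2.ge).trans inf_le_left⟩
  obtain ⟨r, hr, hrd⟩ := (orderOf x).exists_prime_and_dvd (by simpa using hx1)
  have hrτ : r ∈ tau2 N := hτ r hr hrd
  have := Fact.mk hr
  obtain ⟨R, hR⟩ := Sylow_exists r U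
  have hRN : IsSylowOf r R N := subHall_Sylow hUK.hallU
    (fun h => h.elim (tau2_sub_sigma' N hrτ) (bg15_tau2_kappa' N hrτ)) hR
  have hNR : 𝐍 R ≤ M := norm_noncyclic_sigma hG hM (hτσ hrτ) (Sylow_pgroup hR)
    ((pHall_sub hR).trans hUM) fun h => by
      have h2 := cyclic_p_rank_le1 (p := r) h
      rw [p_rank_Sylow hRN, (mem_tau2_iff.1 hrτ).2.2] at h2
      omega
  obtain ⟨L, hL, hCL⟩ := mmax_exists_cent hG ((nontriv_kappa hU.mmax hUK.hallK).2 hP2.maxP)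
  have hF := (P2type_signalizer hG hP2 hUK hL hCL hr hR hM hNR).1
  have hτM : tau2 M = ∅ := Set.eq_empty_of_forall_notMem fun q hq => by
    have h2 := (tau2_P2type_signalizer hG hP2 hUK hr hR hM hNR hq).2.2
    rw [h2] at hrτ
    exact hrτ
  refine ⟨hF, hP2, ?_⟩
  obtain ⟨E, hE', -⟩ := ex_sigma_compl hG hM bot_le pgroup1
  obtain ⟨⟨E₁, hE₁⟩, E₃, hE₃⟩ := ex_tau13_compl hG hM hE'
  obtain ⟨E₂, hE₂⟩ := ex_tau2_compl hG hM hE' hE₁ hE₃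
  have h2 : E₂ = ⊥ := pgroup_eq_bot (pHall_pgroup hE₂.hall2) (pgroupP.2 fun p _ _ => by simp [hτM])
  obtain ⟨g, hg, hgM⟩ := SetLike.not_le_iff_exists.1 hC
  have hxF : x ∈ fittingOf M :=
    Fitting_max (Msigma_normal M) (notP1type_Msigma_nil hG (Or.inl hF)) hx
  obtain ⟨-, -, -, h3, -⟩ := BG15.nonTI_basic hG hM hgM rfl (trivgPn.2 ⟨x, ⟨hxF, by
    have h3 : g⁻¹ * x * g = x := by rw [mul_assoc, ← mem_cent1.1 hg]; group
    exact Coprime.mem_conj_smul.2 (h3.symm ▸ hxF)⟩, hx1⟩)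
  obtain ⟨-, h4, h5⟩ := h3 E E₁ E₂ E₃ hE₂
  obtain rfl := h4.eq_right_of_left_eq_bot h2
  refine ⟨E₁, ⟨sdprod_sigma hG hM hE', Msigma_neq1 hG hM,
    (sigma_compl_context hG hM hE₂).2.1 h2, fun e he he1 => ?_⟩, h5⟩
  by_contra hne
  obtain ⟨y, ⟨hy, hye⟩, hy1⟩ := trivgPn.1 hne
  have h6 : ∀ π : Set ℕ, π = ∅ → ¬ PiElt π e := fun π hπ h =>
    he1 (p_elt_eq_one h fun p _ _ => by simp [hπ])
  rcases pi_of_cent_sigma hG hM hy hy1 ⟨pHall_sub hE' he, cent1C.1 hye⟩ he1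
    (mem_p_elt (pHall_pgroup hE') he) with ⟨h, -⟩ | ⟨h, -⟩
  · exact h6 _ hF.2 h
  · exact h6 _ hτM h

end Cfsg.Lib.FT
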